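import Cfsg.Agent.H146.KW.Reduction
import Cfsg.Prelude.Def_Classification2

/-!
# Interface for the rows of S4243

`NoKW G`: the (simple) group `G` has no proper nonabelian simple subgroup `H` with the Sylow
condition for all primes which is subnormal in every proper overgroup.
-/

set_option autoImplicit false
set_option linter.unusedSectionVars false

open Subgroup

namespace Cfsg.Agent.H146.KW

universe u v

/-- The row statement: no Kegel-Wielandt subgroup. -/
def NoKW (G : Type u) [Group G] : Prop :=
  ∀ H : Subgroup G, IsSimpleGroup H → ¬ IsMulCommutative H → H ≠ ⊤ → PSubAll H →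
    (∀ M : Subgroup G, H ≤ M → M ≠ ⊤ → (H.subgroupOf M).IsSubnormal) → False

/-- Transport along isomorphisms. -/
theorem NoKW.of_equiv {G : Type u} {G' : Type v} [Group G] [Finite G] [Group G'] [Finite G']
    (e : G ≃* G') (h : NoKW G') : NoKW G := by
  intro H hs hc ht hK hM
  have eH : H ≃* H.map e.toMonoidHom := H.equivMapOfInjective e.toMonoidHom e.injective
  refine h (H.map e.toMonoidHom) ?_ ?_ ?_ ?_ ?_
  · exact (MulEquiv.isSimpleGroup_congr eH).mp hs
  · intro hc'
    apply hc
    exact ⟨⟨fun a b => eH.injective (by rw [map_mul, map_mul]; exact hc'.is_comm.comm _ _)⟩⟩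
  · intro h1
    apply ht
    rw [eq_top_iff]
    intro x _
    obtain ⟨y, hy, hyx⟩ : e x ∈ H.map e.toMonoidHom := h1 ▸ Subgroup.mem_top _
    exact e.injective hyx ▸ hy
  · intro p hp
    exact (hK p).map_equiv e
  · intro M hHM hMt
    have h1 := hM (M.comap e.toMonoidHom) (Subgroup.map_le_iff_le_comap.mp hHM) ?_
    · -- transport of subnormality
      let f : M.comap e.toMonoidHom →* M :=
        (e.toMonoidHom.comp (M.comap e.toMonoidHom).subtype).codRestrict M (fun x => x.2)
      have hf : Function.Surjective f := by
        intro y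
        refine ⟨⟨e.symm y, ?_⟩, ?_⟩
        · change e (e.symm y) ∈ M
          rw [e.apply_symm_apply]; exact y.2
        · apply Subtype.ext
          exact e.apply_symm_apply _
      have h2 := h1.map hf
      have h3 : (H.subgroupOf (M.comap e.toMonoidHom)).map f =
          (H.map e.toMonoidHom).subgroupOf M := by
        ext y
        constructor
        · rintro ⟨x, hx, rfl⟩
          exact ⟨x, hx, rfl⟩
        · rintro ⟨x, hx, hxy⟩
          have hxM : x ∈ M.comap e.toMonoidHom := by
            change e x ∈ M
            have : e x = y := hxy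
            rw [this]; exact y.2
          exact ⟨⟨x, hxM⟩, hx, Subtype.ext hxy⟩
      rw [h3] at h2
      exact h2
    · intro h1
      apply hMt
      rw [eq_top_iff]
      intro y _
      have : e.symm y ∈ M.comap e.toMonoidHom := h1 ▸ Subgroup.mem_top _
      have h2 : e (e.symm y) ∈ M := this
      rwa [e.apply_symm_apply] at h2

/-- Assembly: the classification plus all rows give the simple case. -/
theorem simpleCase_of_rows
    (hcl : ∀ (G : Type u) [Group G] [Finite G] [IsSimpleGroup G], Cfsg.IsKnownSimple' G)
    (hrows : ∀ (G : Type u) [Group G] [Finite G] [IsSimpleGroup G], ¬ IsMulCommutative G →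
      Cfsg.IsKnownSimple' G → NoKW G) : SimpleCase.{u} := by
  intro G _ _ _ H hs hc hcG ht hK hM
  exact hrows G hcG (hcl G) H hs hc ht hK hM

end Cfsg.Agent.H146.KW
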