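import Cfsg.Agent.H146.KW.AltFrame
import Cfsg.Agent.H146.KW.Iface
import Cfsg.Agent.S0144

/-!
# The alternating row of S4243
-/

set_option autoImplicit false
set_option linter.unusedSectionVars false

open Equiv Equiv.Perm Subgroup MulAction
open scoped Pointwise

namespace Cfsg.Agent.H146.KW.Alt

universe u

/-- A non-abelian simple group has a prime divisor `≥ 5`. -/
theorem exists_prime_ge_five {H : Type u} [Group H] [Finite H] (hs : IsSimpleGroup H)
    (hc : ¬ IsMulCommutative H) : ∃ p : ℕ, p.Prime ∧ 5 ≤ p ∧ p ∣ Nat.card H := by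
  by_contra hcon
  push Not at hcon
  have h1 : ∀ q : ℕ, q.Prime → q ∣ Nat.card H → q = 2 ∨ q = 3 := by
    intro q hq hqd
    have h2 : q < 5 := by
      by_contra h
      push Not at h
      exact hcon q hq h hqd
    interval_cases q <;> simp_all (config := { decide := true })
  have h2 : Nat.card H = 2 ^ (Nat.card H).factorization 2 * 3 ^ (Nat.card H).factorization 3 := by
    apply Nat.eq_of_factorization_eq Nat.card_pos.ne' (by positivity)
    intro q
    rw [Nat.factorization_mul (by positivity) (by positivity), Finsupp.add_apply,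
      Nat.Prime.factorization_pow Nat.prime_two, Nat.Prime.factorization_pow Nat.prime_three]
    by_cases hq2 : q = 2
    · subst hq2; simp
    · by_cases hq3 : q = 3
      · subst hq3; simp
      · rw [Finsupp.single_eq_of_ne (by simpa using hq2),
          Finsupp.single_eq_of_ne (by simpa using hq3), add_zero]
        by_cases hq : q.Prime
        · by_cases hd : q ∣ Nat.card H
          · rcases h1 q hq hd with h | h <;> contradiction
          · rw [Nat.factorization_eq_zero_of_not_dvd hd]
        · rw [Nat.factorization_eq_zero_of_not_prime _ hq]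
  have h3 := Cfsg.Agent.S0144.result 2 3 _ _ Nat.prime_two Nat.prime_three h2
  have h4 := IsSimpleGroup.comm_iff_isSolvable.mpr h3
  exact hc ⟨⟨h4⟩⟩

variable {α : Type u} [Fintype α] [DecidableEq α]

theorem isThreeCycle_permCongr {β : Type*} [Fintype β] [DecidableEq β] (e : α ≃ β) {t : Perm α}
    (h : (e.permCongrHom t).IsThreeCycle) : t.IsThreeCycle := by
  rw [← card_support_eq_three_iff] at h ⊢
  rw [← h]
  have e1 : (e.permCongrHom t).support = t.support.map e.toEmbedding := by
    ext x
    simp only [Perm.mem_support, Finset.mem_map_equiv]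
    change e (t (e.symm x)) ≠ x ↔ t (e.symm x) ≠ e.symm x
    rw [not_iff_not]
    exact (Equiv.eq_symm_apply e).symm
  rw [e1, Finset.card_map]

/-- The three-cycle in `H`. -/
theorem exists_threeCycle' {H : Subgroup (alternatingGroup α)} (hK : PSubAll H) {p : ℕ}
    (hp : p.Prime) (h5 : 5 ≤ p) (hd : p ∣ Nat.card H) :
    ∃ t ∈ H, (t : Perm α).IsThreeCycle := by
  have : Fact p.Prime := ⟨hp⟩
  obtain ⟨h, hh⟩ := exists_prime_orderOf_dvd_card' (G := H) p hd
  let a := Fintype.card α / p
  let b := Fintype.card α % p
  have hb : b < p := Nat.mod_lt _ hp.pos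
  have e : α ≃ Pt a p b := by
    apply Fintype.equivOfCardEq
    simp only [Fintype.card_sum, Fintype.card_prod, Fintype.card_fin, a, b]
    rw [mul_comm]; exact (Nat.div_add_mod _ _).symm
  -- to the symmetric group
  have h1 : PSub p (H.map (alternatingGroup α).subtype) := by
    apply PSub.of_subgroupOf_normal (Subgroup.map_subtype_le H)
    have : (H.map (alternatingGroup α).subtype).subgroupOf (alternatingGroup α) = H := by
      ext x
      constructor
      · rintro ⟨y, hy, hyx⟩
        have : y = x := Subtype.ext hyx
        exact this ▸ hy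
      · intro hx; exact ⟨x, hx, rfl⟩
    rw [this]; exact hK p
  have h2 := h1.map_equiv e.permCongrHom
  obtain ⟨t, ht, ht3⟩ := exists_threeCycle h5 hb h2 (h := e.permCongrHom ((h : alternatingGroup α) : Perm α))
    ⟨_, ⟨h, h.2, rfl⟩, rfl⟩ (by
      rw [MulEquiv.orderOf_eq, Subgroup.orderOf_coe, Subgroup.orderOf_coe, hh])
  obtain ⟨y, ⟨z, hz, rfl⟩, rfl⟩ := ht
  exact ⟨z, hz, isThreeCycle_permCongr e ht3⟩

/-- A simple group is generated by the conjugates of a nontrivial element. -/
theorem closure_conj_eq_top {H : Type u} [Group H] [IsSimpleGroup H] {t : H} (ht : t ≠ 1)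
    (K : Subgroup H) (hK : ∀ h : H, h * t * h⁻¹ ∈ K) : K = ⊤ := by
  have hN : Subgroup.normalClosure {t} = ⊤ := by
    rcases (Subgroup.normalClosure_normal (s := ({t} : Set H))).eq_bot_or_eq_top with h0 | h0
    · exfalso
      have : t ∈ (⊥ : Subgroup H) := h0 ▸ Subgroup.subset_normalClosure rfl
      exact ht ((Subgroup.mem_bot).mp this)
    · exact h0
  rw [eq_top_iff, ← hN, Subgroup.normalClosure, Subgroup.closure_le]
  intro y hy
  rw [Group.mem_conjugatesOfSet_iff] at hy
  obtain ⟨z, hz, hzy⟩ := hy
  rw [Set.mem_singleton_iff] at hz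
  subst hz
  obtain ⟨c, hc⟩ := isConj_iff.mp hzy
  rw [← hc]; exact hK c

/-- Transitive case. -/
theorem eq_top_of_transitive {H : Subgroup (alternatingGroup α)} (hs : IsSimpleGroup H)
    {t : alternatingGroup α} (ht : t ∈ H) (ht3 : (t : Perm α).IsThreeCycle)
    (htr : ∀ x y : α, ∃ h ∈ H, (h : Perm α) x = y) : H = ⊤ := by
  have hcard : ∀ s : Perm α, s.IsThreeCycle → s.support.card = 3 := fun s hs =>
    card_support_eq_three_iff.mpr hs
  have ht1 : (⟨t, ht⟩ : H) ≠ 1 := by
    intro h
    have h1 : t = 1 := congrArg Subtype.val h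
    rw [h1] at ht3
    have := hcard _ ht3
    simp at this
  set G' : Subgroup (Perm α) := H.map (alternatingGroup α).subtype with hG'
  have htr' : IsPretransitive G' α := by
    refine ⟨fun x y => ?_⟩
    obtain ⟨h, hh, hxy⟩ := htr x y
    exact ⟨⟨h, ⟨h, hh, rfl⟩⟩, hxy⟩
  have hprim : IsPreprimitive G' α := by
    refine { isTrivialBlock_of_isBlock := ?_ }
    intro B hB
    by_cases hsub : B.Subsingleton
    · exact Or.inl hsub
    right
    rw [Set.not_subsingleton_iff] at hsub
    obtain ⟨x, hx, y, hy, hxy⟩ := hsub
    -- every three-cycle fixes `B`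
    have key : ∀ s : G', (s : Perm α).IsThreeCycle → s • B = B := by
      intro s hs3
      by_contra hne
      have hdis : Disjoint (s • B) B := by
        have := hB (g₁ := s) (g₂ := 1) (by simpa using hne)
        simpa using this
      have hsx : (s : Perm α) x ∉ B := fun h =>
        Set.disjoint_left.mp hdis (Set.smul_mem_smul_set (a := s) hx) h
      have hsy : (s : Perm α) y ∉ B := fun h =>
        Set.disjoint_left.mp hdis (Set.smul_mem_smul_set (a := s) hy) h
      have h1 : (s : Perm α) x ≠ x := fun h => hsx (by rw [h]; exact hx)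
      have h2 : (s : Perm α) y ≠ y := fun h => hsy (by rw [h]; exact hy)
      have h3 : (s : Perm α) x ≠ y := fun h => hsx (h ▸ hy)
      have h4 : (s : Perm α) y ≠ x := fun h => hsy (h ▸ hx)
      have h5 : (s : Perm α) x ≠ (s : Perm α) y := fun h => hxy ((s : Perm α).injective h)
      have h6 : ({x, y, (s : Perm α) x, (s : Perm α) y} : Finset α) ⊆ (s : Perm α).support := by
        intro z hz
        simp only [Finset.mem_insert, Finset.mem_singleton] at hz
        rw [Perm.mem_support]
        rcases hz with rfl | rfl | rfl | rfl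
        · exact h1
        · exact h2
        · exact fun h => h1 ((s : Perm α).injective h)
        · exact fun h => h2 ((s : Perm α).injective h)
      have h7 : ({x, y, (s : Perm α) x, (s : Perm α) y} : Finset α).card = 4 := by
        rw [Finset.card_insert_of_notMem, Finset.card_insert_of_notMem,
          Finset.card_insert_of_notMem, Finset.card_singleton]
        · simpa using h5
        · simp only [Finset.mem_insert, Finset.mem_singleton, not_or]
          exact ⟨fun h => h3 h.symm, fun h => h2 h.symm⟩
        · simp only [Finset.mem_insert, Finset.mem_singleton, not_or]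
          exact ⟨hxy, fun h => h1 h.symm, fun h => h4 h.symm⟩
      have h8 := Finset.card_le_card h6
      rw [h7, hcard _ hs3] at h8
      omega
    -- so everything fixes `B`
    have hfix : ∀ h ∈ H, ∀ z ∈ B, (h : Perm α) z ∈ B := by
      let S : Subgroup H :=
        { carrier := {h | ∀ z, ((h : alternatingGroup α) : Perm α) z ∈ B ↔ z ∈ B}
          one_mem' := fun z => Iff.rfl
          mul_mem' := fun {u v} hu hv z => by
            have : (((u * v : H) : alternatingGroup α) : Perm α) z =
              ((u : alternatingGroup α) : Perm α) (((v : alternatingGroup α) : Perm α) z) := rfl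
            rw [this, hu, hv]
          inv_mem' := fun {u} hu z => by
            have := hu ((((u⁻¹ : H) : alternatingGroup α) : Perm α) z)
            have e : ((u : alternatingGroup α) : Perm α)
              ((((u⁻¹ : H) : alternatingGroup α) : Perm α) z) = z :=
              ((u : alternatingGroup α) : Perm α).apply_symm_apply z
            rw [e] at this
            exact this.symm }
      have hS : S = ⊤ := by
        apply closure_conj_eq_top ht1
        intro h z
        have h9 := key ⟨(((h * ⟨t, ht⟩ * h⁻¹ : H) : alternatingGroup α) : Perm α),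
          ⟨_, (h * ⟨t, ht⟩ * h⁻¹ : H).2, rfl⟩⟩ (by
            change (((h : alternatingGroup α) : Perm α) * (t : Perm α) *
              ((h : alternatingGroup α) : Perm α)⁻¹).IsThreeCycle
            rw [IsThreeCycle, cycleType_conj]; exact ht3)
        constructor
        · intro hz
          rw [← h9] at hz
          obtain ⟨w, hw, hwz⟩ := hz
          have : w = z := (((h * ⟨t, ht⟩ * h⁻¹ : H) : alternatingGroup α) : Perm α).injective hwz
          exact this ▸ hw
        · intro hz
          rw [← h9]
          exact ⟨z, hz, rfl⟩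
      intro h hh z hz
      have : (⟨h, hh⟩ : H) ∈ S := hS ▸ Subgroup.mem_top _
      exact (this z).mpr hz
    rw [Set.eq_univ_iff_forall]
    intro z
    obtain ⟨h, hh, hxz⟩ := htr x z
    rw [← hxz]; exact hfix h hh x hx
  have hle := alternatingGroup_le_of_isPreprimitive_of_isThreeCycle_mem hprim ht3 ⟨t, ht, rfl⟩
  rw [eq_top_iff]
  intro x _
  obtain ⟨y, hy, hyx⟩ := hle x.2
  have : y = x := Subtype.ext hyx
  exact this ▸ hy

/-- Intransitive case. -/
theorem exists_fixed {H : Subgroup (alternatingGroup α)} (hs : IsSimpleGroup H)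
    {t : alternatingGroup α} (ht : t ∈ H) (ht3 : (t : Perm α).IsThreeCycle)
    (htr : ¬ ∀ x y : α, ∃ h ∈ H, (h : Perm α) x = y) : ∃ β : α, ∀ h ∈ H, (h : Perm α) β = β := by
  have hcard : ∀ s : Perm α, s.IsThreeCycle → s.support.card = 3 := fun s hs =>
    card_support_eq_three_iff.mpr hs
  have ht1 : (⟨t, ht⟩ : H) ≠ 1 := by
    intro h
    have h1 : t = 1 := congrArg Subtype.val h
    rw [h1] at ht3
    have := hcard _ ht3
    simp at this
  obtain ⟨x, hx⟩ : ((t : Perm α).support).Nonempty := by
    rw [← Finset.card_pos, hcard _ ht3]; norm_num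
  -- the orbit of `x`
  have hβ : ∃ β : α, ∀ h ∈ H, (h : Perm α) x ≠ β := by
    by_contra hcon
    push Not at hcon
    apply htr
    intro y z
    obtain ⟨h1, hh1, h1y⟩ := hcon y
    obtain ⟨h2, hh2, h2z⟩ := hcon z
    refine ⟨h2 * h1⁻¹, H.mul_mem hh2 (H.inv_mem hh1), ?_⟩
    change (h2 : Perm α) ((h1 : Perm α)⁻¹ y) = z
    rw [← h1y, ← h2z]
    congr 1
    exact (h1 : Perm α).symm_apply_apply x
  obtain ⟨β, hβ⟩ := hβ
  refine ⟨β, ?_⟩
  let S : Subgroup H :=
    { carrier := {h | ((h : alternatingGroup α) : Perm α) β = β}
      one_mem' := rfl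
      mul_mem' := fun {u v} hu hv => by
        change ((u : alternatingGroup α) : Perm α) (((v : alternatingGroup α) : Perm α) β) = β
        rw [hv, hu]
      inv_mem' := fun {u} hu => by
        change (((u : alternatingGroup α) : Perm α)).symm β = β
        rw [Equiv.symm_apply_eq]; exact hu.symm }
  have hS : S = ⊤ := by
    apply closure_conj_eq_top ht1
    intro h
    change ((h : alternatingGroup α) : Perm α) ((t : Perm α)
      (((h : alternatingGroup α) : Perm α)⁻¹ β)) = β
    set γ := ((h : alternatingGroup α) : Perm α)⁻¹ β with hγ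
    have hγβ : ((h : alternatingGroup α) : Perm α) γ = β :=
      ((h : alternatingGroup α) : Perm α).apply_symm_apply β
    by_cases h1 : (t : Perm α) γ = γ
    · rw [h1, hγβ]
    · -- `γ` is in the support of `t`, so in the cycle of `x`
      exfalso
      have h2 : (t : Perm α).SameCycle x γ :=
        ht3.isCycle.sameCycle (Perm.mem_support.mp hx) h1
      obtain ⟨i, hi⟩ := h2
      apply hβ ((h : alternatingGroup α) * t ^ i)
        (H.mul_mem h.2 (H.zpow_mem ht i))
      rw [← hγβ, ← hi]
      rfl
  intro h hh
  have : (⟨h, hh⟩ : H) ∈ S := hS ▸ Subgroup.mem_top _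
  exact this

theorem noKW (h5 : 5 ≤ Nat.card α) : NoKW (alternatingGroup α) := by
  intro H hs hc ht hK hM
  obtain ⟨p, hp, hp5, hpd⟩ := exists_prime_ge_five hs hc
  obtain ⟨t, htH, ht3⟩ := exists_threeCycle' hK hp hp5 hpd
  by_cases htr : ∀ x y : α, ∃ h ∈ H, (h : Perm α) x = y
  · exact ht (eq_top_of_transitive hs htH ht3 htr)
  obtain ⟨β, hβ⟩ := exists_fixed hs htH ht3 htr
  have hpt : IsPretransitive (alternatingGroup α) α :=
    alternatingGroup.isPretransitive_of_three_le_card α (by omega)
  set M : Subgroup (alternatingGroup α) := stabilizer (alternatingGroup α) β with hMdef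
  have hHM : H ≤ M := fun h hh => hβ h hh
  have hMi : M.index = Nat.card α := index_stabilizer_of_transitive _ _
  have hMt : M ≠ ⊤ := by
    intro h
    rw [h, Subgroup.index_top] at hMi
    omega
  have hsub := hM M hHM hMt
  -- `M` is the alternating group on the other points
  let s : Finset α := Finset.univ.erase β
  have hMs : M = (alternatingGroup.ofSubtype s).range := by
    ext x
    rw [alternatingGroup.mem_range_ofSubtype_iff]
    constructor
    · intro hx y hy
      rw [Finset.mem_erase]
      refine ⟨?_, Finset.mem_univ _⟩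
      rintro rfl
      exact (Perm.mem_support.mp hy) hx
    · intro hx
      by_contra hne
      have : β ∈ (x : Perm α).support := Perm.mem_support.mpr hne
      exact (Finset.mem_erase.mp (hx this)).1 rfl
  have hscard : Nat.card s = Nat.card α - 1 := by
    rw [Nat.card_eq_fintype_card, Fintype.card_coe, Finset.card_erase_of_mem (Finset.mem_univ _),
      Finset.card_univ, Nat.card_eq_fintype_card]
  have eM : alternatingGroup s ≃* M := by
    rw [hMs]
    exact MonoidHom.ofInjective alternatingGroup.ofSubtype_injective
  by_cases h6 : 6 ≤ Nat.card α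
  · have hsimp : IsSimpleGroup (alternatingGroup s) :=
      alternatingGroup.isSimpleGroup (by omega)
    have hMsimp : IsSimpleGroup M := (MulEquiv.isSimpleGroup_congr eM).mp hsimp
    have hHM' : H = M := by
      rcases hsub.eq_bot_or_top_of_isSimpleGroup hMsimp with h | h
      · exfalso
        have hne : t ≠ 1 := by
          rintro rfl
          have := card_support_eq_three_iff.mpr ht3
          simp at this
        apply hne
        have : (⟨t, hHM htH⟩ : M) ∈ H.subgroupOf M := htH
        rw [h, Subgroup.mem_bot] at this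
        exact congrArg Subtype.val this
      · exact le_antisymm hHM (Subgroup.subgroupOf_eq_top.mp h)
    have hn1 : Nat.card α - 1 ≠ 1 := by omega
    obtain ⟨q, hq, hqd⟩ := Nat.exists_prime_and_dvd hn1
    have : Fact q.Prime := ⟨hq⟩
    have : IsSimpleGroup (alternatingGroup α) := alternatingGroup.isSimpleGroup h5
    apply ht
    have hqn : ¬ q ∣ Nat.card α := by
      intro h
      have h1 : q ∣ Nat.card α - (Nat.card α - 1) := Nat.dvd_sub h hqd
      have h2 : Nat.card α - (Nat.card α - 1) = 1 := by omega
      rw [h2] at h1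
      exact hq.one_lt.ne' (Nat.dvd_one.mp h1)
    refine (hK q).eq_top_of_not_dvd_index ?_ (by rw [hHM', hMi]; exact hqn)
    -- `q` divides the order
    have hnt : Nontrivial α := by
      rw [← Finite.one_lt_card_iff_nontrivial]; omega
    have h2 : 2 * Nat.card (alternatingGroup α) = (Nat.card α).factorial := by
      rw [two_mul_nat_card_alternatingGroup, Nat.card_perm]
    by_cases hq2 : q = 2
    · subst hq2
      have h4 : 2 * 2 ∣ (Nat.card α).factorial :=
        (by decide : 2 * 2 ∣ Nat.factorial 4).trans (Nat.factorial_dvd_factorial (by omega))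
      rw [← h2] at h4
      exact Nat.dvd_of_mul_dvd_mul_left (by norm_num) h4
    · have h3 : q ∣ (Nat.card α).factorial := by
        apply Nat.dvd_factorial hq.pos
        exact (Nat.le_of_dvd (by omega) hqd).trans (by omega)
      rw [← h2] at h3
      rcases (hq.dvd_mul).mp h3 with h | h
      · exfalso; exact hq2 ((Nat.prime_dvd_prime_iff_eq hq Nat.prime_two).mp h)
      · exact h
  · -- `|α| = 5`
    have hα : Nat.card α = 5 := by omega
    have h1 : p ∣ Nat.card M := hpd.trans (Subgroup.card_dvd_of_le hHM)
    rw [← Nat.card_congr eM.toEquiv] at h1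
    have hnt : Nontrivial s := by
      rw [← Finite.one_lt_card_iff_nontrivial]; omega
    have h2 : 2 * Nat.card (alternatingGroup s) = (Nat.card s).factorial := by
      rw [two_mul_nat_card_alternatingGroup, Nat.card_perm]
    rw [hscard, hα] at h2
    have h3 : Nat.card (alternatingGroup s) = 12 := by
      have : Nat.factorial (5 - 1) = 24 := by decide
      omega
    rw [h3] at h1
    have h4 : p ≤ 12 := Nat.le_of_dvd (by norm_num) h1
    interval_cases p <;> revert h1 hp <;> decide

/-- **The alternating row.** -/
theorem noKW_of_isAlternating {G : Type u} [Group G] [Finite G] (h : Cfsg.IsAlternating G) :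
    NoKW G := by
  obtain ⟨n, hn, ⟨e⟩⟩ := h
  exact NoKW.of_equiv e (noKW (by simpa using hn))

end Cfsg.Agent.H146.KW.Alt
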