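import Cfsg.Agent.H146.KW.PslBlock
import Cfsg.Agent.LieExceptional.CyclicSylow

/-!
# Cyclic `l`-subgroups of `GL_N(q)`, `N < 2 e`, `e` the order of `q` modulo `l` (helper146, S4243)
-/

set_option autoImplicit false

open Matrix

namespace Cfsg.Agent.H146.KW

open Psl

universe u v

theorem val_gam_lt {q l e : ℕ} [hl : Fact l.Prime] (hord : ∀ i, l ∣ q ^ i - 1 ↔ e ∣ i)
    {n : ℕ} (hn : n < e) : padicValNat l (gam q n) = 0 := by
  apply padicValNat.eq_zero_of_not_dvd
  intro hd
  obtain ⟨i, hi, hd⟩ := (Prime.dvd_finsetProd_iff (Nat.prime_iff.mp hl.out) _).mp hd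
  have h1 := Nat.le_of_dvd (by omega) ((hord _).mp hd)
  have := Finset.mem_range.mp hi
  omega

theorem val_gam_mid {q l e : ℕ} [hl : Fact l.Prime] (hq : 2 ≤ q) (he : 0 < e)
    (hord : ∀ i, l ∣ q ^ i - 1 ↔ e ∣ i)
    {n : ℕ} (hn : e ≤ n) (hn2 : n < 2 * e) : padicValNat l (gam q n) = padicValNat l (q ^ e - 1) := by
  induction n, hn using Nat.le_induction with
  | base =>
    obtain ⟨k, rfl⟩ : ∃ k, e = k + 1 := ⟨e - 1, by omega⟩
    rw [gam_succ, padicValNat.mul (gam_pos hq k).ne' (by
      have : 2 ≤ q ^ (k + 1) := hq.trans (Nat.le_self_pow (by omega) q)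
      omega), val_gam_lt hord (Nat.lt_succ_self k), zero_add]
  | succ n hn ih =>
    rw [gam_succ, padicValNat.mul (gam_pos hq n).ne' (by
      have : 2 ≤ q ^ (n + 1) := hq.trans (Nat.le_self_pow (by omega) q)
      omega), ih (by omega), padicValNat.eq_zero_of_not_dvd (n := q ^ (n + 1) - 1), add_zero]
    intro hd
    obtain ⟨k, hk⟩ := (hord _).mp hd
    rcases Nat.lt_or_ge k 2 with h2 | h2
    · interval_cases k <;> omega
    · have := Nat.mul_le_mul_left e h2
      omega

/-- `l`-groups in `GL_N(q)` are cyclic if `e ≤ N < 2 e`. -/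
theorem isCyclic_of_GL {F : Type u} [Field F] [Fintype F] {l e : ℕ} [hl : Fact l.Prime] (hlq : ¬ l ∣ Fintype.card F)
    (he : 0 < e) (hord : ∀ i, l ∣ Fintype.card F ^ i - 1 ↔ e ∣ i)
    {ι : Type} [Fintype ι] [DecidableEq ι] (h1 : e ≤ Fintype.card ι) (h2 : Fintype.card ι < 2 * e)
    {P : Type v} [Group P] (hP : IsPGroup l P) (f : P →* GL ι F) (hf : Function.Injective f) : IsCyclic P := by
  classical
  have hq : 2 ≤ Fintype.card F := Fintype.one_lt_card
  have hne : NeZero e := ⟨he.ne'⟩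
  obtain ⟨K, _, _, hK, g, hg⟩ := LieExceptional.CyclicSylow.exists_singer F e
  obtain ⟨m, hm⟩ : ∃ m, Fintype.card ι = e + m := ⟨Fintype.card ι - e, by omega⟩
  have e1 : ι ≃ Fin e ⊕ Fin m := (Fintype.equivFinOfCardEq hm).trans finSumFinEquiv.symm
  let e2 : GL ι F ≃* GL (Fin e ⊕ Fin m) F := Units.mapEquiv (Matrix.reindexAlgEquiv F F e1).toMulEquiv
  let f' : P →* GL (Fin e ⊕ Fin m) F := e2.toMonoidHom.comp f
  have hf' : Function.Injective f' := e2.injective.comp hf
  let g' : Kˣ →* GL (Fin e ⊕ Fin m) F := (bd (Fin e) (Fin m) F).comp ((MonoidHom.inl _ _).comp g)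
  have hg' : Function.Injective g' := by
    intro x y hxy
    have h3 := bd_injective hxy
    exact hg (congrArg Prod.fst h3)
  have hval : (Nat.card (GL (Fin e ⊕ Fin m) F)).factorization l = (Nat.card Kˣ).factorization l := by
    rw [card_GL_sum, Nat.factorization_def _ hl.out, Nat.factorization_def _ hl.out, val_card_GL hlq,
      val_gam_mid hq he hord (by omega) (by omega), Nat.card_units, hK, Nat.card_eq_fintype_card]
  have h3 : IsPGroup l f'.range := hP.of_surjective f'.rangeRestrict f'.rangeRestrict_surjective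
  have h4 := LieExceptional.CyclicSylow.isCyclic_of_isPGroup_of_hom g' hg' hval h3
  exact isCyclic_of_injective f'.rangeRestrict (fun x y hxy => hf' (congrArg Subtype.val hxy))

/-- Sylow `l`-subgroups of a matrix group of degree `e ≤ N < 2 e` are cyclic. -/
theorem isCyclic_sylow_of_matrix {F : Type u} [Field F] [Fintype F] {l e : ℕ} [hl : Fact l.Prime]
    (hlq : ¬ l ∣ Fintype.card F) (he : 0 < e) (hord : ∀ i, l ∣ Fintype.card F ^ i - 1 ↔ e ∣ i)
    {ι : Type} [Fintype ι] [DecidableEq ι] (h1 : e ≤ Fintype.card ι) (h2 : Fintype.card ι < 2 * e)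
    {X : Type v} [Group X] (f : X →* Matrix ι ι F) (hf : Function.Injective f) (R : Sylow l X) : IsCyclic R := by
  refine isCyclic_of_GL hlq he hord h1 h2 R.isPGroup' (f.toHomUnits.comp (R : Subgroup X).subtype) ?_
  intro x y h
  apply Subtype.ext
  apply hf
  exact congrArg Units.val h

/-- Sylow subgroups of a quotient of a group with cyclic Sylow subgroups -/
theorem isCyclic_sylow_of_surjective {X : Type u} {G : Type v} [Group X] [Finite X] [Group G] {l : ℕ} [Fact l.Prime]
    (ρ : X →* G) (hρ : Function.Surjective ρ) (h : ∀ R : Sylow l X, IsCyclic R) (P : Sylow l G) : IsCyclic P := by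
  have : Finite G := Finite.of_surjective ρ hρ
  obtain ⟨R, rfl⟩ := Sylow.mapSurjective_surjective hρ l P
  have := h R
  rw [Sylow.coe_mapSurjective]
  exact isCyclic_of_surjective (ρ.subgroupMap (R : Subgroup X)) (ρ.subgroupMap_surjective _)

end Cfsg.Agent.H146.KW
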