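import Cfsg.Agent.H146.KW.CycGL
import Cfsg.Agent.H331.KW.Good
import Cfsg.Agent.H62.PCFam
import Cfsg.Agent.H62.PCPlusEnd

/-!
# Good primes of the classical groups (helper146, S4243, own characteristic)
-/

set_option autoImplicit false
set_option linter.unusedSectionVars false

namespace Cfsg.Agent.H146.KW.GoodCl

open Module Cfsg.Agent.H689 Cfsg.Agent.H62.PCGeo
open CoxeterSystem Cfsg.Agent.ChevalleyStructure.CoxeterGeom Cfsg.Agent.Tits.Roots Cfsg.Agent.Nodes.TypeC
open Cfsg.Agent.Nodes Cfsg.Agent.Nodes.Comb Cfsg.Agent.Nodes.Reps Cfsg.Agent.Nodes.WittRoot Cfsg.Agent.Nodes.BNOf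
open Cfsg.Agent.Nodes.WittRGD Cfsg.Agent.Nodes.RGDLib Cfsg.Agent.Nodes.WittAll
open Cfsg.Agent.TitsThree Cfsg.Agent.TitsThree.Siegel Cfsg.Agent.TitsThree.WittFrame
  Cfsg.Agent.TitsThree.WittWeyl Cfsg.Agent.TitsThree.FrameCN
open Cfsg.Agent.H554.SizeC Cfsg.Agent.H62.PCFrame Cfsg.Agent.H62.PCWitt Cfsg.Agent.H62.PCNum Cfsg.Agent.H62.PCFam
open Cfsg

section Model

variable {F : Type*} [Field F] {V : Type*} [AddCommGroup V] [Module F V] {H : HForm F V} {n : ℕ}
  {Fr : Frame H (Fin n)} {K : Type*} [Group K] [Finite K] (M : Model Fr K) {p : ℕ} (hA : AmbT Fr p M.I)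
  [Finite F] [Finite V] [Fact p.Prime] [CharP F p] {p0 : Fr.Adm} (hp0 : p0.c ≠ 0) (hn : 0 < n)
  {L : Subgroup K} (hL : L ≠ ⊤) (hLp : ¬ p ∣ L.index)

include hA hp0 hn hL hLp

theorem par_of_ppd {l : ℕ} (h : Ppd (Nat.card F) (finrank F V) l) : ¬ l ∣ Nat.card L := by
  intro hd
  obtain ⟨i, g, hg, hg1, hgl, hst⟩ := Cfsg.Agent.H62.PCWitt.exists_elt M hA hp0 hn hL hLp h.prime hd
  have hI := iso_RS (isoS_Si i) (Si_nonempty i) hst
  rcases irr h hgl hg1 hst with h1 | h1
  · exact hI.ne_bot h1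
  · have h2 := hI.dim
    have h3 : finrank F (RS Fr (Si i)) ≠ 0 := fun h4 => hI.ne_bot (Submodule.finrank_eq_zero.1 h4)
    have h4 : finrank F (RS Fr (Si i)) = finrank F V := by rw [h1, finrank_top]
    omega

theorem par_of_ppd' (hN : 3 ≤ finrank F V) {l : ℕ} (h : Ppd (Nat.card F) (finrank F V - 1) l) :
    ¬ l ∣ Nat.card L := by
  intro hd
  obtain ⟨i, g, hg, hg1, hgl, hst⟩ := Cfsg.Agent.H62.PCWitt.exists_elt M hA hp0 hn hL hLp h.prime hd
  exact odd_false hN h hgl hg1 (hA.iso g hg) (iso_RS (isoS_Si i) (Si_nonempty i) hst)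

end Model

/-! ### symplectic groups -/

section Sp

variable {F : Type*} [Field F] [Fintype F]

/-- `PSp_2m(q)` -/
theorem psp {m : ℕ} (hm : 2 ≤ m) (h6 : ¬ (Fintype.card F = 2 ∧ m = 3)) {p : ℕ} [CharP F p] :
    ∃ t, Ppd (Fintype.card F) (2 * m) t ∧ H331.KW.Good p t (PSp m F) := by
  have : Fact p.Prime := ⟨CharP.char_is_prime F p⟩
  have hq : 1 < Fintype.card F := Fintype.one_lt_card
  obtain ⟨l, hl⟩ := exists_ppd (q := Fintype.card F) (k := 2 * m) hq (by omega) (fun h => h6 ⟨h.1, by omega⟩)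
  have hlf : Fact l.Prime := ⟨hl.prime⟩
  have hcard := card_psp (F := F) rfl (m := m) (by omega)
  have hprod : Fintype.card F ^ (2 * m) - 1 ∣ ∏ i ∈ Finset.range m, (Fintype.card F ^ (2 * (i + 1)) - 1) := by
    have h1 := Finset.dvd_prod_of_mem (fun i => Fintype.card F ^ (2 * (i + 1)) - 1)
      (Finset.mem_range.2 (show m - 1 < m by omega))
    have h2 : m - 1 + 1 = m := by omega
    rwa [h2] at h1
  have hlK : l ∣ Nat.card (PSp m F) :=
    dvd_of_denom hl.prime (hl.two_lt (by omega)) ((Nat.gcd_dvd_left _ _).trans (by norm_num)) hcard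
      ((((hl.iff _).2 dvd_rfl).trans hprod).mul_left _)
  have hV : finrank F (Fin m ⊕ Fin m → F) = 2 * m := by
    rw [Module.finrank_fintype_fun_eq_card, Fintype.card_sum, Fintype.card_fin]
    omega
  have hA := AmbT.of_amb (WittU.amb_Sp (m := m) (F := F)) p
  have hp0 : (SpIdent.adm (1 : F) : (SpIdent.frame m F).Adm).c ≠ 0 := one_ne_zero
  refine ⟨l, hl, hl.prime, hlK, ?_, ?_⟩
  · refine isCyclic_sylow_of_surjective (QuotientGroup.mk' _) (QuotientGroup.mk'_surjective _) ?_
    refine isCyclic_sylow_of_matrix (ι := Fin m ⊕ Fin m) hl.not_dvd (by omega) hl.iff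
      (by rw [Fintype.card_sum, Fintype.card_fin]; omega) (by rw [Fintype.card_sum, Fintype.card_fin]; omega)
      (Matrix.symplecticGroup (Fin m) F).subtype Subtype.val_injective
  · intro L hL hLp
    exact par_of_ppd (KInstSp.model m F) hA hp0 (by omega) hL hLp
      (l := l) (by rw [hV, Nat.card_eq_fintype_card]; exact hl)

end Sp

/-! ### unitary groups -/

section U

variable {F : Type*} [Field F] [Fintype F] {q N : ℕ} (hF : Fintype.card F = q ^ 2)

include hF in
/-- `PSU_N(q)`: `N'` is the odd one of `N - 1, N` -/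
theorem psu (hN : 3 ≤ N) (h4 : ¬ (N = 4 ∧ q = 2)) (h3 : ¬ (N = 3 ∧ q = 2)) {p : ℕ} [CharP F p] :
    ∃ t, Ppd q (2 * (if Even N then N - 1 else N)) t ∧ H331.KW.Good p t (PSU N F q) := by
  have : Fact p.Prime := ⟨CharP.char_is_prime F p⟩
  have hq : 2 ≤ q := LieClassical.HermBasic.two_le hF
  obtain ⟨m, hm⟩ : ∃ m, N = 2 * m ∨ N = 2 * m + 1 := ⟨N / 2, by omega⟩
  obtain ⟨W, -⟩ := WittU.exists_wframe hF hm
  obtain ⟨p0, hp0, -⟩ := WittU.exists_adm hF W
  have hA := AmbT.of_amb (WittU.amb_U hF W) p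
  have hV : finrank F (Fin N → F) = N := by
    rw [Module.finrank_fintype_fun_eq_card, Fintype.card_fin]
  have hcard := S0280.result hF N (by omega)
  -- denominators
  have hden : ∀ {l e : ℕ}, Ppd q (2 * e) l → 2 ≤ e →
      l ∣ ∏ i ∈ Finset.range N, (if Even i then q ^ (i + 1) + 1 else q ^ (i + 1) - 1) → l ∣ Nat.card (PSU N F q) := by
    intro l e hl he hd
    have h1 : ¬ l ∣ q + 1 := by
      intro h1
      have h2 := dvd_two_mul hl (j := 1) (by rwa [pow_one])
      have := Nat.le_of_dvd (by norm_num) h2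
      omega
    have h2 : l ∣ Nat.gcd N (q + 1) * ((q + 1) * Nat.card (PSU N F q)) := by
      rw [hcard]; exact hd.mul_left _
    rcases hl.prime.dvd_mul.1 h2 with h5 | h5
    · exact absurd (h5.trans (Nat.gcd_dvd_right _ _)) h1
    · exact (hl.prime.dvd_mul.1 h5).resolve_left h1
  have hF' : Nat.card F = q ^ 2 := by rw [Nat.card_eq_fintype_card, hF]
  -- cyclic Sylow subgroups
  have hcyc : ∀ {l e : ℕ}, Ppd q (2 * e) l → 0 < e → e ≤ N → N < 2 * e → ∀ P : Sylow l (PSU N F q), IsCyclic P := by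
    intro l e hl he heN hNe
    have hlf : Fact l.Prime := ⟨hl.prime⟩
    have hl' := ppd_sq hl
    refine isCyclic_sylow_of_surjective (QuotientGroup.mk' _) (QuotientGroup.mk'_surjective _) ?_
    refine isCyclic_sylow_of_matrix (ι := Fin N) (by rw [hF]; exact hl'.not_dvd) he (by rw [hF]; exact hl'.iff)
      (by rw [Fintype.card_fin]; omega) (by rw [Fintype.card_fin]; omega)
      ((Units.coeHom (Matrix (Fin N) (Fin N) F)).comp
        ((Matrix.SpecialLinearGroup.toGL : Matrix.SpecialLinearGroup (Fin N) F →* Matrix.GeneralLinearGroup (Fin N) F).comp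
          (SU N F q).subtype)) ?_
    intro x y h
    apply Subtype.ext
    apply Subtype.ext
    exact h
  rcases hm with hm | hm
  · -- even dimension
    have hev : Even N := ⟨m, by omega⟩
    rw [if_pos hev]
    obtain ⟨l, hl⟩ := exists_ppd (q := q) (k := 2 * (N - 1)) hq (by omega) (fun h => h4 ⟨by omega, h.1⟩)
    have hlK : l ∣ Nat.card (PSU N F q) := by
      refine hden hl (by omega) ?_
      have h1 := Finset.dvd_prod_of_mem (fun i => if Even i then q ^ (i + 1) + 1 else q ^ (i + 1) - 1)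
        (Finset.mem_range.2 (show N - 2 < N by omega))
      have h2 : N - 2 + 1 = N - 1 := by omega
      have h5 : Even (N - 2) := ⟨m - 1, by omega⟩
      simp only [h5, if_true, h2] at h1
      exact (dvd_add (by omega) hl).trans h1
    refine ⟨l, hl, hl.prime, hlK, hcyc hl (by omega) (by omega) (by omega), ?_⟩
    intro L hL hLp
    exact par_of_ppd' (KInstU.model hF (by omega) W) hA hp0 (by omega) hL hLp (l := l)
      (by rw [hV]; exact hN) (by rw [hV, hF']; exact ppd_sq hl)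
  · -- odd dimension
    have hev : ¬ Even N := by rw [Nat.not_even_iff_odd]; exact ⟨m, by omega⟩
    rw [if_neg hev]
    obtain ⟨l, hl⟩ := exists_ppd (q := q) (k := 2 * N) hq (by omega) (fun h => h3 ⟨by omega, h.1⟩)
    have hlK : l ∣ Nat.card (PSU N F q) := by
      refine hden hl (by omega) ?_
      have h1 := Finset.dvd_prod_of_mem (fun i => if Even i then q ^ (i + 1) + 1 else q ^ (i + 1) - 1)
        (Finset.mem_range.2 (show N - 1 < N by omega))
      have h2 : N - 1 + 1 = N := by omega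
      have h5 : Even (N - 1) := ⟨m, by omega⟩
      simp only [h5, if_true, h2] at h1
      exact (dvd_add (by omega) hl).trans h1
    refine ⟨l, hl, hl.prime, hlK, hcyc hl (by omega) (by omega) (by omega), ?_⟩
    intro L hL hLp
    exact par_of_ppd (KInstU.model hF (by omega) W) hA hp0 (by omega) hL hLp (l := l)
      (by rw [hV, hF']; exact ppd_sq hl)

end U

/-! ### orthogonal groups -/

section Orthogonal

open QuadraticMap
open Cfsg.Agent.LieClassical Cfsg.Agent.LieClassical.OrthCore Cfsg.Agent.LieClassical.OrthTrans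
open Cfsg.Agent.LieClassical.OrthSimple Cfsg.Agent.LieClassical.OrthFinite
open Cfsg.Agent.LieClassical.OrthForms
open Cfsg.Agent.TitsThree.KSideO Cfsg.Agent.TitsThree.StdData Cfsg.Agent.TitsThree.SiegelGen
  Cfsg.Agent.TitsThree.WBridge Cfsg.Agent.Nodes.WittInst

variable {F : Type*} [Field F] [Fintype F]

/-- Sylow subgroups of `PΩ` -/
theorem cyc_po {ι : Type} [Fintype ι] [DecidableEq ι] (Q : (ι → F) → F) {l e : ℕ} (hl : Ppd (Fintype.card F) e l)
    (he : 0 < e) (h1 : e ≤ Fintype.card ι) (h2 : Fintype.card ι < 2 * e) (P : Sylow l (POmega F Q)) : IsCyclic P := by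
  have hlf : Fact l.Prime := ⟨hl.prime⟩
  revert P
  refine isCyclic_sylow_of_surjective (QuotientGroup.mk' _) (QuotientGroup.mk'_surjective _) ?_
  refine isCyclic_sylow_of_matrix (ι := ι) hl.not_dvd he hl.iff h1 h2
    ((Units.coeHom (Matrix ι ι F)).comp ((isometryGroup F Q).subtype.comp (Omega F Q).subtype)) ?_
  intro x y h
  apply Subtype.ext
  apply Subtype.ext
  exact Units.ext h

/-- `PΩ_(2m+1)(q)`, `q` odd -/
theorem po_odd {m : ℕ} (hodd : Odd (Fintype.card F)) (hm : 3 ≤ m) {p : ℕ} [CharP F p] :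
    ∃ t, Ppd (Fintype.card F) (2 * m) t ∧ H331.KW.Good p t (Cfsg.POmega F (Cfsg.quadFormOdd m F)) := by
  have : Fact p.Prime := ⟨CharP.char_is_prime F p⟩
  have hcard := S0292.result (F := F) rfl hodd m hm
  have hfin : Finite (POmega F (Cfsg.quadFormOdd m F)) := inferInstance
  have hcardι : Fintype.card (Unit ⊕ Fin m ⊕ Fin m) = 2 * m + 1 := by
    rw [Fintype.card_sum, Fintype.card_sum, Fintype.card_fin, Fintype.card_unit]
    omega
  have hcyc : ∀ {l : ℕ}, Ppd (Fintype.card F) (2 * m) l →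
      ∀ P : Sylow l (POmega F (Cfsg.quadFormOdd m F)), IsCyclic P := fun hl P =>
    cyc_po _ hl (by omega) (by omega) (by omega) P
  rw [← coe_oddForm] at hcard hfin hcyc ⊢
  have h2 : (2 : F) ≠ 0 := by
    intro h2
    have h3 : CharP F 2 := CharTwo.of_one_ne_zero_of_two_eq_zero one_ne_zero h2
    obtain ⟨k, -, hk⟩ := FiniteField.card F 2
    rw [hk] at hodd
    exact absurd hodd (by
      rw [Nat.not_odd_iff_even]
      exact (even_two).pow_of_ne_zero k.ne_zero)
  have hG : Good (oddForm m F) := by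
    apply good_of_finite (nondeg_oddForm m F h2)
    rw [Module.finrank_fintype_fun_eq_card, Fintype.card_sum, Fintype.card_sum, Fintype.card_fin,
      Fintype.card_unit]
    omega
  have hp0 : ((embOdd m F).ngt ⟨1, -1 ^ 2, rfl⟩).c ≠ 0 := by
    change (1 : F)⁻¹ * (-1 ^ 2) ≠ 0
    simp
  have hV : finrank F (Unit ⊕ Fin m ⊕ Fin m → F) = 2 * m + 1 := by
    rw [Module.finrank_fintype_fun_eq_card, Fintype.card_sum, Fintype.card_sum, Fintype.card_fin, Fintype.card_unit]
    omega
  have hq : 1 < Fintype.card F := Fintype.one_lt_card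
  obtain ⟨l, hl⟩ := exists_ppd (q := Fintype.card F) (k := 2 * m) hq (by omega) (fun h => by
    rw [h.1] at hodd
    exact absurd hodd (by decide))
  have hprod : Fintype.card F ^ (2 * m) - 1 ∣ ∏ i ∈ Finset.range m, (Fintype.card F ^ (2 * (i + 1)) - 1) := by
    have h1 := Finset.dvd_prod_of_mem (fun i => Fintype.card F ^ (2 * (i + 1)) - 1)
      (Finset.mem_range.2 (show m - 1 < m by omega))
    have h2 : m - 1 + 1 = m := by omega
    rwa [h2] at h1
  have hlK : l ∣ Nat.card (Cfsg.POmega F (⇑(oddForm m F))) :=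
    dvd_of_denom hl.prime (hl.two_lt (by omega)) (by norm_num) hcard
      ((((hl.iff _).2 dvd_rfl).trans hprod).mul_left _)
  have hA := AmbT.of_amb (amb_O_of_two (wodd m F) h2) p
  refine ⟨l, hl, hl.prime, hlK, hcyc hl, ?_⟩
  intro L hL hLp
  exact par_of_ppd' (model (wodd m F) hG ⟨_, hp0⟩) hA hp0 (by omega) hL hLp
    (l := l) (by rw [hV]; omega) (by rw [hV, Nat.card_eq_fintype_card]; exact hl)

/-- `PΩ⁻_2m(q)` -/
theorem po_minus {m : ℕ} (a b : F)
    (hab : ∀ z₁ z₂ : F, z₁ ^ 2 + a * z₁ * z₂ + b * z₂ ^ 2 = 0 → z₁ = 0 ∧ z₂ = 0)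
    (hm : 4 ≤ m) {p : ℕ} [CharP F p] :
    ∃ t, Ppd (Fintype.card F) (2 * m) t ∧ H331.KW.Good p t (Cfsg.POmega F (Cfsg.quadFormMinus (m - 1) F a b)) := by
  have : Fact p.Prime := ⟨CharP.char_is_prime F p⟩
  have hcard := S0294.result (F := F) rfl m hm a b hab
  have hfin : Finite (POmega F (Cfsg.quadFormMinus (m - 1) F a b)) := inferInstance
  have hcardι : Fintype.card ((Fin (m - 1) ⊕ Fin (m - 1)) ⊕ Fin 2) = 2 * m := by
    rw [Fintype.card_sum, Fintype.card_sum, Fintype.card_fin, Fintype.card_fin]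
    omega
  have hcyc : ∀ {l : ℕ}, Ppd (Fintype.card F) (2 * m) l →
      ∀ P : Sylow l (POmega F (Cfsg.quadFormMinus (m - 1) F a b)), IsCyclic P := fun hl P =>
    cyc_po _ hl (by omega) (by omega) (by omega) P
  rw [← coe_minusForm] at hcard hfin hcyc ⊢
  have hG : Good (minusForm (m - 1) F a b) := by
    apply good_of_finite (nondeg_minusForm (m - 1) F a b hab)
    rw [Module.finrank_fintype_fun_eq_card, Fintype.card_sum, Fintype.card_sum, Fintype.card_fin,
      Fintype.card_fin]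
    omega
  have hp0 : ((embMinus (m - 1) F a b hab).ngt ⟨(1, 0), -nf a b (1, 0), rfl⟩).c ≠ 0 := by
    change (1 : F)⁻¹ * (-nf a b (1, 0)) ≠ 0
    simp [nf]
  have hA : AmbT (toFrame (wminus (m - 1) F a b hab)) p (E (minusForm (m - 1) F a b)) := by
    by_cases h2 : (2 : F) = 0
    · have hp2 : p = 2 := by
        have h3 : CharP F 2 := CharTwo.of_one_ne_zero_of_two_eq_zero one_ne_zero h2
        exact CharP.eq F ‹CharP F p› h3
      subst hp2
      exact ambT_O _ fun g hg hg2 hb => fixp_minus a b hab h2 (by omega) hG hg hg2 hb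
    · exact AmbT.of_amb (amb_O_of_two _ h2) p
  have hV : finrank F ((Fin (m - 1) ⊕ Fin (m - 1)) ⊕ Fin 2 → F) = 2 * m := by
    rw [Module.finrank_fintype_fun_eq_card, Fintype.card_sum, Fintype.card_sum, Fintype.card_fin, Fintype.card_fin]
    omega
  have hq : 1 < Fintype.card F := Fintype.one_lt_card
  obtain ⟨l, hl⟩ := exists_ppd (q := Fintype.card F) (k := 2 * m) hq (by omega) (fun h => by omega)
  have hlK : l ∣ Nat.card (Cfsg.POmega F (⇑(minusForm (m - 1) F a b))) :=
    dvd_of_denom hl.prime (hl.two_lt (by omega)) (Nat.gcd_dvd_left _ _) hcard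
      (((dvd_add (by omega) hl).mul_left _).mul_right _)
  refine ⟨l, hl, hl.prime, hlK, hcyc hl, ?_⟩
  intro L hL hLp
  exact par_of_ppd (model (wminus (m - 1) F a b hab) hG ⟨_, hp0⟩) hA hp0 (by omega) hL hLp
    (l := l) (by rw [hV, Nat.card_eq_fintype_card]; exact hl)

end Orthogonal

end Cfsg.Agent.H146.KW.GoodCl
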