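import Cfsg.Agent.H146.KW.GoodCl

/-!
# Good primes of `PΩ⁺` (helper146, S4243, own characteristic)
-/

set_option autoImplicit false
set_option linter.unusedSectionVars false

namespace Cfsg.Agent.H146.KW.GoodCl

open Module Cfsg.Agent.H689 Cfsg.Agent.H62.PCGeo QuadraticMap
open CoxeterSystem Cfsg.Agent.ChevalleyStructure.CoxeterGeom Cfsg.Agent.Tits.Roots
open Cfsg.Agent.Nodes.TypeC (wt ng ng_ng ng_fst wt_ng wt_apply wt_injective)
open Cfsg.Agent.Nodes.TypeD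
open Cfsg.Agent.Nodes Cfsg.Agent.Nodes.Comb Cfsg.Agent.Nodes.Reps Cfsg.Agent.Nodes.BNOf
open Cfsg.Agent.Nodes.RGDLib Cfsg.Agent.Nodes.WittInst Cfsg.Agent.Nodes.WittRGD Cfsg.Agent.Nodes.WittRoot
open Cfsg.Agent.Nodes.StabComb Cfsg.Agent.Nodes.Bruhat Cfsg.Agent.Nodes.LeviDec
open Cfsg.Agent.KFacts.SLRow.OmegaPlus Cfsg.Agent.LieClassical.OrthForms Cfsg.Agent.LieClassical.OrthCore
open Cfsg.Agent.TitsThree.KSideO Cfsg.Agent.TitsThree.StdData Cfsg.Agent.LieClassical.OrthSimple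
  Cfsg.Agent.LieClassical.OrthFinite Cfsg.Agent.TitsThree.WBridge Cfsg.Agent.TitsThree.WittFrame
  Cfsg.Agent.TitsThree.SiegelGen
open Cfsg.Agent.H62.PCFrame Cfsg.Agent.H62.PCWitt Cfsg.Agent.H62.PCNum Cfsg.Agent.H62.PCFam Cfsg.Agent.H62.PCPlus
open Cfsg

variable {F : Type*} [Field F] [Fintype F]

/-- `PΩ⁺_2m(q)` -/
theorem po_plus {m : ℕ} (hm : 4 ≤ m) (h6 : ¬ (Fintype.card F = 2 ∧ m = 4)) {p : ℕ} [CharP F p] :
    ∃ t, Ppd (Fintype.card F) (2 * (m - 1)) t ∧ H331.KW.Good p t (Cfsg.POmega F (Cfsg.quadFormPlus m F)) := by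
  have : Fact p.Prime := ⟨CharP.char_is_prime F p⟩
  have hcard := S0293.result (F := F) rfl m hm
  have hsing := S0289.result (F := F) rfl m (by omega)
  have hcyc : ∀ {l : ℕ}, Ppd (Fintype.card F) (2 * (m - 1)) l →
      ∀ P : Sylow l (POmega F (Cfsg.quadFormPlus m F)), IsCyclic P := fun hl P =>
    cyc_po _ hl (by omega) (by rw [Fintype.card_sum, Fintype.card_fin]; omega)
      (by rw [Fintype.card_sum, Fintype.card_fin]; omega) P
  obtain ⟨n, rfl⟩ : ∃ n, m = n + 2 := ⟨m - 2, by omega⟩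
  rw [← coe_plusForm] at hcard hsing hcyc ⊢
  have hG := good_plus (n + 2) F (by omega)
  let cs := (M n).toCoxeterSystem
  have : Finite (M n).Group := finite_W cs
  have R := rgdD_model (wplus (n + 2) F) hG (amb_plus _) (adm_plus _) (p := p) cs
  have hG1 := G1D_eq_top (wplus (n + 2) F) (toPOmega hG) (toPOmega_surjective hG) (adm_plus _) cs
  have hfin : Finite (POmega F ⇑(plusForm (n + 2) F)) := inferInstance
  have hq : 1 < Fintype.card F := Fintype.one_lt_card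
  obtain ⟨l, hl⟩ := exists_ppd (q := Fintype.card F) (k := 2 * (n + 2 - 1)) hq (by omega)
    (fun h => h6 ⟨h.1, by omega⟩)
  have hprod : Fintype.card F ^ (2 * (n + 2 - 1)) - 1 ∣
      ∏ i ∈ Finset.range (n + 2 - 1), (Fintype.card F ^ (2 * (i + 1)) - 1) := by
    have h1 := Finset.dvd_prod_of_mem (fun i => Fintype.card F ^ (2 * (i + 1)) - 1)
      (Finset.mem_range.2 (show n + 2 - 1 - 1 < n + 2 - 1 by omega))
    have h2 : n + 2 - 1 - 1 + 1 = n + 2 - 1 := by omega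
    rwa [h2] at h1
  have hlK : l ∣ Nat.card (Cfsg.POmega F (⇑(plusForm (n + 2) F))) :=
    dvd_of_denom hl.prime (hl.two_lt (by omega)) (Nat.gcd_dvd_left _ _) hcard
      ((((hl.iff _).2 dvd_rfl).trans hprod).mul_left _)
  have hfr : finrank F (Fin (n + 2) ⊕ Fin (n + 2) → F) = 2 * (n + 2) := by
    rw [Module.finrank_fintype_fun_eq_card, Fintype.card_sum, Fintype.card_fin]
    omega
  refine ⟨l, hl, hl.prime, hlK, hcyc hl, ?_⟩
  intro L hL hLp h1
  obtain ⟨kk, i, hi, hV⟩ := exists_conj_PJ R hG1 hL hLp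
  obtain ⟨g, hg, hg1, hgl, hst⟩ := Cfsg.Agent.H62.PCFrame.exists_elt (toPOmega hG) (hi.trans (PJ_le _ _ cs i)) hl.prime h1
  have hI := iso_RS (isoS_SD i) (SD_nonempty i) hst
  have hiso := (amb_plus (F := F) (n + 2)).iso g hg
  have hl' : Ppd (Nat.card F) (finrank F (Fin (n + 2) ⊕ Fin (n + 2) → F) - 2) l := by
    rw [hfr, Nat.card_eq_fintype_card]
    have e : 2 * (n + 2) - 2 = 2 * (n + 2 - 1) := by omega
    rw [e]
    exact hl
  obtain ⟨h2, h3, h4⟩ := plus_one (by rw [hfr]; omega) hl' hgl hg1 hiso hI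
  rw [finrank_RS] at h3
  have h5 := eq_zero_of_ncard (by omega) h3
  have hmem : ((⟨0, by omega⟩ : Fin (n + 2)), true) ∈ SD i := by
    unfold SD
    rw [if_neg (by omega)]
    exact ⟨Nat.zero_le _, rfl⟩
  have hv : (toFrame (wplus (n + 2) F)).b ((⟨0, by omega⟩ : Fin (n + 2)), true) ∈ Fx g := h4 (b_mem hmem)
  have hs : plusForm (n + 2) F ((toFrame (wplus (n + 2) F)).b ((⟨0, by omega⟩ : Fin (n + 2)), true)) = 0 :=
    (sing_iff (plusForm (n + 2) F)).1 ((wplus (n + 2) F).e_sing _)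
  have hb0 : (toFrame (wplus (n + 2) F)).b ((⟨0, by omega⟩ : Fin (n + 2)), true) ≠ 0 := by
    intro h0
    have := (toFrame (wplus (n + 2) F)).hb_self_neg ((⟨0, by omega⟩ : Fin (n + 2)), true)
    rw [h0, (HO _).zero_left] at this
    exact (toFrame (wplus (n + 2) F)).η_ne _ this.symm
  obtain ⟨u, hu⟩ := hI.nondeg _ (b_mem hmem) hb0
  obtain ⟨u', hu1, hu2⟩ := exists_fix (cast_ne hl') hgl hiso (mem_Fx.1 hv) hu
  refine plus_false (m := n + 2) (by omega) (plusForm (n + 2) F) (by rw [Nat.card_eq_fintype_card]; exact hl) hgl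
    (fun v => mem_O.1 (E_le_O hg) v) ?_ h2 hv hs (mem_Fx.2 hu1) hu2
  rw [hsing, Nat.card_eq_fintype_card]

end Cfsg.Agent.H146.KW.GoodCl
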