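import Cfsg.Agent.H146.KW.PslBlock
import Cfsg.Agent.H146.KW.Iface
import Cfsg.Agent.LieExceptional.CyclicSylow
import Cfsg.Agent.S0144

/-!
# The row `PSL_n(q)` of S4243
-/

set_option autoImplicit false
set_option linter.unusedSectionVars false

open Matrix

namespace Cfsg.Agent.H146.KW

universe u

/-- A non-abelian simple group has a prime divisor different from two given primes. -/
theorem exists_third_prime {H : Type u} [Group H] [Finite H] (hs : IsSimpleGroup H)
    (hc : ¬ IsMulCommutative H) {a b : ℕ} (ha : a.Prime) (hb : b.Prime) :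
    ∃ p : ℕ, p.Prime ∧ p ≠ a ∧ p ≠ b ∧ p ∣ Nat.card H := by
  by_contra hcon
  push Not at hcon
  have hsol : ∀ k l : ℕ, Nat.card H = a ^ k * b ^ l → False := by
    intro k l h2
    have h3 := Cfsg.Agent.S0144.result a b _ _ ha hb h2
    have h4 := IsSimpleGroup.comm_iff_isSolvable.mpr h3
    exact hc ⟨⟨h4⟩⟩
  by_cases hab : a = b
  · subst hab
    apply hsol ((Nat.card H).factorization a) 0
    rw [pow_zero, mul_one]
    apply Nat.eq_of_factorization_eq Nat.card_pos.ne' (pow_ne_zero _ ha.ne_zero)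
    intro q
    rw [Nat.Prime.factorization_pow ha]
    by_cases hq2 : q = a
    · subst hq2; simp
    · rw [Finsupp.single_eq_of_ne (by simpa using hq2)]
      by_cases hq : q.Prime
      · rw [Nat.factorization_eq_zero_of_not_dvd (hcon q hq hq2 hq2)]
      · rw [Nat.factorization_eq_zero_of_not_prime _ hq]
  · apply hsol ((Nat.card H).factorization a) ((Nat.card H).factorization b)
    apply Nat.eq_of_factorization_eq Nat.card_pos.ne'
      (mul_ne_zero (pow_ne_zero _ ha.ne_zero) (pow_ne_zero _ hb.ne_zero))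
    intro q
    rw [Nat.factorization_mul (pow_ne_zero _ ha.ne_zero) (pow_ne_zero _ hb.ne_zero),
      Finsupp.add_apply, Nat.Prime.factorization_pow ha, Nat.Prime.factorization_pow hb]
    by_cases hq2 : q = a
    · subst hq2; simp [hab]
    · by_cases hq3 : q = b
      · subst hq3; simp [Ne.symm hab]
      · rw [Finsupp.single_eq_of_ne (by simpa using hq2),
          Finsupp.single_eq_of_ne (by simpa using hq3), add_zero]
        by_cases hq : q.Prime
        · rw [Nat.factorization_eq_zero_of_not_dvd (hcon q hq hq2 hq3)]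
        · rw [Nat.factorization_eq_zero_of_not_prime _ hq]

namespace Psl

/-- The order of `q` modulo `s`. -/
theorem exists_ord {q s : ℕ} (hs : s.Prime) (hq : 2 ≤ q) (hsq : ¬ s ∣ q) :
    ∃ e, 0 < e ∧ e < s ∧ ∀ i, s ∣ q ^ i - 1 ↔ e ∣ i := by
  have : Fact s.Prime := ⟨hs⟩
  have hcop : Nat.Coprime q s := ((Nat.Prime.coprime_iff_not_dvd hs).mpr hsq).symm
  set x := ZMod.unitOfCoprime q hcop with hx
  refine ⟨orderOf x, orderOf_pos x, ?_, ?_⟩
  · have h1 := orderOf_le_card_univ (x := x)
    rw [ZMod.card_units] at h1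
    have := hs.pos
    omega
  · intro i
    rw [orderOf_dvd_iff_pow_eq_one]
    have hle : 1 ≤ q ^ i := Nat.one_le_pow _ _ (by omega)
    have h1 : (s ∣ q ^ i - 1) ↔ ((q : ZMod s) ^ i = 1) := by
      rw [← Nat.modEq_iff_dvd' hle, ← ZMod.natCast_eq_natCast_iff]
      push_cast
      exact eq_comm
    rw [h1, Units.ext_iff, Units.val_pow_eq_pow_val, Units.val_one, hx, ZMod.coe_unitOfCoprime]

variable {G : Type u} [Group G] [Finite G]

/-- The surjection `SL → G` after reindexing. -/
theorem exists_rho {F : Type} [Field F] [Fintype F] {n : ℕ}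
    (e : G ≃* Matrix.ProjectiveSpecialLinearGroup (Fin n) F) {ι : Type} [Fintype ι] [DecidableEq ι]
    (f : ι ≃ Fin n) : ∃ ρ : SpecialLinearGroup ι F →* G, Function.Surjective ρ := by
  let r : SpecialLinearGroup ι F →* SpecialLinearGroup (Fin n) F :=
    { toFun := fun M => ⟨Matrix.reindex f f M.1, by rw [Matrix.det_reindex_self]; exact M.2⟩
      map_one' := by
        apply Subtype.ext
        simp
      map_mul' := fun M N => by
        apply Subtype.ext
        change Matrix.reindex f f (M.1 * N.1) = Matrix.reindex f f M.1 * Matrix.reindex f f N.1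
        simp only [Matrix.reindex_apply]
        rw [Matrix.submatrix_mul_equiv] }
  have hr : Function.Surjective r := by
    intro M
    refine ⟨⟨Matrix.reindex f.symm f.symm M.1, by rw [Matrix.det_reindex_self]; exact M.2⟩, ?_⟩
    apply Subtype.ext
    change Matrix.reindex f f (Matrix.reindex f.symm f.symm M.1) = M.1
    ext i j
    simp
  refine ⟨(e.symm.toMonoidHom.comp (QuotientGroup.mk' _)).comp r, ?_⟩
  rw [MonoidHom.coe_comp, MonoidHom.coe_comp]
  exact (e.symm.surjective.comp (QuotientGroup.mk'_surjective _)).comp hr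

/-- Every prime `s ∤ q` dividing `|H|` satisfies `n = e s^b`, `b ≥ 1`. -/
theorem key [IsSimpleGroup G] {F : Type} [Field F] [Fintype F] {n : ℕ} (hn : 2 ≤ n)
    (e : G ≃* Matrix.ProjectiveSpecialLinearGroup (Fin n) F) {H : Subgroup G} (hH : H ≠ ⊤)
    {s : ℕ} [hs : Fact s.Prime] (hsq : ¬ s ∣ Fintype.card F) (hK : PSub s H)
    (hd : s ∣ Nat.card H) : ∃ d b, d < s ∧ 0 < d ∧ n = d * s ^ (b + 1) := by
  classical
  have hq : 2 ≤ Fintype.card F := Fintype.one_lt_card
  obtain ⟨d, hd0, hds, hord⟩ := exists_ord hs.out hq hsq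
  obtain ⟨ρ, hρ⟩ := exists_rho e (Equiv.refl (Fin n))
  have hsG : s ∣ Nat.card G := hd.trans (Subgroup.card_subgroup_dvd_card H)
  -- `d ≤ n`
  have hGL : Nat.card G ∣ Nat.card (GL (Fin n) F) := by
    have h1 : Nat.card G ∣ Nat.card (SpecialLinearGroup (Fin n) F) :=
      Subgroup.card_dvd_of_surjective ρ hρ
    refine h1.trans (Subgroup.card_dvd_of_injective
      (SpecialLinearGroup.toGL : SpecialLinearGroup (Fin n) F →* GL (Fin n) F) ?_)
    intro x y h
    apply Subtype.ext
    exact congrArg (fun M : GL (Fin n) F => (M : Matrix (Fin n) (Fin n) F)) h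
  have hdn : d ≤ n := by
    by_contra hlt
    push Not at hlt
    have h1 : padicValNat s (Nat.card (GL (Fin n) F)) = 0 := by
      rw [val_card_GL hsq]
      apply padicValNat.eq_zero_of_not_dvd
      intro hdv
      obtain ⟨i, hi, hiv⟩ := (Prime.dvd_finsetProd_iff (Nat.prime_iff.mp hs.out) _).mp hdv
      have h2 := Nat.le_of_dvd (by omega) ((hord _).mp hiv)
      have := Finset.mem_range.mp hi
      omega
    rcases padicValNat.eq_zero_iff.mp h1 with h | h | h
    · exact hs.out.one_lt.ne' h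
    · exact Nat.card_pos.ne' h
    · exact h (hsG.trans hGL)
  by_cases hsplit : ∀ b, n ≠ d * s ^ b
  · exfalso
    obtain ⟨m, hm0, hmn, hval⟩ := exists_split hq hd0 hord hdn hsplit
    obtain ⟨ρ', hρ'⟩ := exists_rho e ((finSumFinEquiv (m := m) (n := n - m)).trans
      (finCongr (by omega)))
    have h1 : m + (n - m) = n := by omega
    exact hH (eq_top_of_split hsq hm0 (by omega) (by rw [h1]; exact hval) ρ' hρ' hK hd)
  · push Not at hsplit
    obtain ⟨b, hb⟩ := hsplit
    rcases Nat.eq_zero_or_pos b with rfl | hb0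
    · -- cyclic Sylow subgroups
      exfalso
      rw [pow_zero, mul_one] at hb
      have hne : NeZero n := ⟨by omega⟩
      apply hH
      apply hK.eq_top_of_isCyclic hd
      intro P
      obtain ⟨R, rfl⟩ := Sylow.mapSurjective_surjective hρ s P
      have hRc : IsCyclic R := by
        have h2 : ¬ s ∣ Nat.card F := by rwa [Nat.card_eq_fintype_card]
        refine LieExceptional.CyclicSylow.isCyclic_of_isPGroup_of_hom_GL h2 ?_ R.isPGroup'
          ((SpecialLinearGroup.toGL : SpecialLinearGroup (Fin n) F →* GL (Fin n) F).comp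
            (R : Subgroup (SpecialLinearGroup (Fin n) F)).subtype) ?_
        · intro i hi0 hin hdv
          rw [Nat.card_eq_fintype_card] at hdv
          have := Nat.le_of_dvd hi0 ((hord i).mp hdv)
          omega
        · intro x y h
          apply Subtype.ext
          apply Subtype.ext
          exact congrArg (fun M : GL (Fin n) F => (M : Matrix (Fin n) (Fin n) F)) h
      rw [Sylow.coe_mapSurjective]
      exact isCyclic_of_surjective (ρ.subgroupMap (R : Subgroup (SpecialLinearGroup (Fin n) F)))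
        (ρ.subgroupMap_surjective _)
    · exact ⟨d, b - 1, hds, hd0, by rw [hb]; congr 2; omega⟩

/-- **The row `PSL_n(q)`.** -/
theorem noKW_of_isPSL [IsSimpleGroup G] (h : Cfsg.IsPSL G) : NoKW G := by
  obtain ⟨F, _, _, n, hn, -, ⟨e⟩⟩ := h
  intro H hs hc ht hK _
  obtain ⟨r, hr⟩ := CharP.exists F
  have hrp : r.Prime := (CharP.char_is_prime_or_zero F r).resolve_right (CharP.char_ne_zero_of_finite F r)
  have hq : ∀ s : ℕ, s.Prime → s ≠ r → ¬ s ∣ Fintype.card F := by
    intro s hsp hsr hd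
    have : Fact r.Prime := ⟨hrp⟩
    obtain ⟨k, -, hk⟩ := FiniteField.card F r
    rw [hk] at hd
    exact hsr ((Nat.prime_dvd_prime_iff_eq hsp hrp).mp (hsp.dvd_of_dvd_pow hd))
  obtain ⟨s₁, hs₁, hs₁r, -, hd₁⟩ := exists_third_prime hs hc hrp hrp
  obtain ⟨s₂, hs₂, hs₂r, hs₂₁, hd₂⟩ := exists_third_prime hs hc hrp hs₁
  have : Fact s₁.Prime := ⟨hs₁⟩
  have : Fact s₂.Prime := ⟨hs₂⟩
  obtain ⟨d₁, b₁, hds₁, hd0₁, hn₁⟩ := key hn e ht (hq s₁ hs₁ hs₁r) (hK s₁) hd₁
  obtain ⟨d₂, b₂, hds₂, hd0₂, hn₂⟩ := key hn e ht (hq s₂ hs₂ hs₂r) (hK s₂) hd₂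
  have aux : ∀ {x y : ℕ}, x.Prime → y.Prime → x ≠ y → ∀ {dx bx dy bz : ℕ}, n = dx * x ^ (bx + 1) →
      n = dy * y ^ (bz + 1) → 0 < dy → x ≤ dy := by
    intro x y hx hy hxy dx bx dy bz h1 h2 h0
    have h3 : x ∣ dy * y ^ (bz + 1) := by
      rw [← h2, h1]
      exact dvd_mul_of_dvd_right (dvd_pow_self x (Nat.succ_ne_zero bx)) dx
    rcases (hx.dvd_mul).mp h3 with h | h
    · exact Nat.le_of_dvd h0 h
    · exact absurd ((Nat.prime_dvd_prime_iff_eq hx hy).mp (hx.dvd_of_dvd_pow h)) hxy
  have h1 := aux hs₁ hs₂ (Ne.symm hs₂₁) hn₁ hn₂ hd0₂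
  have h2 := aux hs₂ hs₁ hs₂₁ hn₂ hn₁ hd0₁
  omega

end Psl

end Cfsg.Agent.H146.KW
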