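import Mathlib

/-!
# Numerical part of the PSL row of S4243: Gaussian binomials modulo a prime
-/

set_option autoImplicit false

namespace Cfsg.Agent.H146.KW.Psl

/-- `∏_{i=1}^n (q^i - 1)`. -/
def gam (q n : ℕ) : ℕ := ∏ i ∈ Finset.range n, (q ^ (i + 1) - 1)

theorem gam_succ (q n : ℕ) : gam q (n + 1) = gam q n * (q ^ (n + 1) - 1) := by
  rw [gam, Finset.prod_range_succ, gam]

theorem gam_pos {q : ℕ} (hq : 2 ≤ q) (n : ℕ) : 0 < gam q n := by
  apply Finset.prod_pos
  intro i _
  have : 2 ≤ q ^ (i + 1) := hq.trans (Nat.le_self_pow (by omega) q)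
  omega

/-- Gaussian binomial `[a + b, a]_q`. -/
def gbin (q : ℕ) : ℕ → ℕ → ℕ
  | 0, _ => 1
  | _ + 1, 0 => 1
  | a + 1, b + 1 => gbin q a (b + 1) + q ^ (a + 1) * gbin q (a + 1) b

theorem gbin_mul {q : ℕ} (hq : 2 ≤ q) : ∀ a b : ℕ, gbin q a b * gam q a * gam q b = gam q (a + b)
  | 0, b => by simp [gbin, gam]
  | a + 1, 0 => by simp [gbin, gam]
  | a + 1, b + 1 => by
    have h1 := gbin_mul hq a (b + 1)
    have h2 := gbin_mul hq (a + 1) b
    have e : a + 1 + (b + 1) = (a + b + 1) + 1 := by ring
    rw [e, gam_succ q (a + b + 1), gbin]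
    have e1 : a + (b + 1) = a + b + 1 := by ring
    have e2 : a + 1 + b = a + b + 1 := by ring
    rw [e1] at h1
    rw [e2] at h2
    have ha : 1 ≤ q ^ (a + 1) := Nat.one_le_pow _ _ (by omega)
    have hb : 1 ≤ q ^ (b + 1) := Nat.one_le_pow _ _ (by omega)
    have h3 : q ^ (a + b + 1 + 1) - 1 = (q ^ (a + 1) - 1) + q ^ (a + 1) * (q ^ (b + 1) - 1) := by
      have : q ^ (a + b + 1 + 1) = q ^ (a + 1) * q ^ (b + 1) := by rw [← pow_add]; congr 1; ring
      rw [this, Nat.mul_sub, mul_one]
      have h4 : q ^ (a + 1) ≤ q ^ (a + 1) * q ^ (b + 1) := Nat.le_mul_of_pos_right _ (by omega)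
      omega
    rw [h3, mul_add]
    nth_rewrite 1 [← h1]
    rw [← h2, gam_succ q a, gam_succ q b]
    ring
termination_by a b => a + b

theorem gbin_mod {q s : ℕ} (h : q ≡ 1 [MOD s]) : ∀ a b : ℕ, gbin q a b ≡ (a + b).choose a [MOD s]
  | 0, b => by simp [gbin]; rfl
  | a + 1, 0 => by simp [gbin]; rfl
  | a + 1, b + 1 => by
    have h1 := gbin_mod h a (b + 1)
    have h2 := gbin_mod h (a + 1) b
    have e : a + 1 + (b + 1) = (a + b + 1) + 1 := by ring
    rw [e, Nat.choose_succ_succ, gbin]
    have e1 : a + (b + 1) = a + b + 1 := by ring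
    have e2 : a + 1 + b = a + b + 1 := by ring
    rw [e1] at h1
    rw [e2] at h2
    refine h1.add ?_
    have h3 : q ^ (a + 1) ≡ 1 [MOD s] := by simpa using h.pow (a + 1)
    simpa using h3.mul h2
termination_by a b => a + b

/-- If `n` is no power of the prime `s`, some binomial coefficient `C(n, m)`, `0 < m < n`, is prime
to `s`. -/
theorem exists_choose {s : ℕ} (hs : s.Prime) : ∀ n : ℕ, 1 ≤ n → (∀ k, n ≠ s ^ k) →
    ∃ m, 0 < m ∧ m < n ∧ ¬ s ∣ n.choose m := by
  intro n
  have : Fact s.Prime := ⟨hs⟩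
  induction n using Nat.strong_induction_on with
  | _ n ih =>
    intro hn hk
    have hdm := Nat.div_add_mod n s
    by_cases hv : n % s = 0
    · have hu : n = s * (n / s) := by omega
      have hu1 : 1 ≤ n / s := by
        by_contra h
        have : n / s = 0 := Nat.lt_one_iff.mp (not_le.mp h)
        rw [this, mul_zero] at hu; omega
      have hlt : n / s < n := Nat.div_lt_self hn hs.one_lt
      obtain ⟨w, hw0, hwu, hw⟩ := ih (n / s) hlt hu1 (by
        intro k hk'
        apply hk (k + 1)
        rw [hu, hk', pow_succ]; ring)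
      refine ⟨s * w, Nat.mul_pos hs.pos hw0, ?_, ?_⟩
      · rw [hu]; exact Nat.mul_lt_mul_of_pos_left hwu hs.pos
      · have h1 := Choose.choose_modEq_choose_mod_mul_choose_div_nat (n := n) (k := s * w) (p := s)
        rw [hv, Nat.mul_mod_right, Nat.mul_div_cancel_left _ hs.pos] at h1
        intro hd
        apply hw
        have := (Nat.modEq_zero_iff_dvd.mpr hd).symm.trans h1
        simp only [Nat.choose_self, one_mul] at this
        exact Nat.modEq_zero_iff_dvd.mp this.symm
    · by_cases hu : n / s = 0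
      · -- `n < s`
        have hns : n < s := by
          rw [Nat.div_eq_zero_iff] at hu
          rcases hu with h | h
          · exact absurd h hs.ne_zero
          · exact h
        have hn1 : n ≠ 1 := by simpa using hk 0
        refine ⟨1, by norm_num, by omega, ?_⟩
        rw [Nat.choose_one_right]
        intro hd
        exact absurd (Nat.le_of_dvd hn hd) (by omega)
      · have hu1 : 1 ≤ n / s := Nat.one_le_iff_ne_zero.mpr hu
        have hlt : n % s < n := by
          have : s * 1 ≤ s * (n / s) := Nat.mul_le_mul_left s hu1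
          have := hs.pos
          omega
        refine ⟨n % s, by omega, hlt, ?_⟩
        have h1 := Choose.choose_modEq_choose_mod_mul_choose_div_nat (n := n) (k := n % s) (p := s)
        rw [Nat.mod_mod, Nat.choose_self, one_mul, Nat.div_eq_of_lt (Nat.mod_lt n hs.pos),
          Nat.choose_zero_right] at h1
        intro hd
        have := (Nat.modEq_zero_iff_dvd.mpr hd).symm.trans h1
        have h2 := Nat.modEq_zero_iff_dvd.mp this.symm
        exact hs.one_lt.ne' (Nat.dvd_one.mp h2)

/-- valuation of `gam q n` for a prime `s` with `q` of order `e` modulo `s`. -/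
theorem val_gam {q s e : ℕ} (hq : 2 ≤ q) [hs : Fact s.Prime] (he : 0 < e)
    (hord : ∀ i, s ∣ q ^ i - 1 ↔ e ∣ i) (n : ℕ) :
    padicValNat s (gam q n) = padicValNat s (gam (q ^ e) (n / e)) := by
  induction n with
  | zero => simp [gam]
  | succ n ih =>
    rw [gam_succ, padicValNat.mul (gam_pos hq n).ne' (by
      have : 2 ≤ q ^ (n + 1) := hq.trans (Nat.le_self_pow (by omega) q)
      omega), ih]
    by_cases hd : e ∣ n + 1
    · obtain ⟨k, hk⟩ := hd
      have hk0 : k ≠ 0 := by rintro rfl; omega
      obtain ⟨j, rfl⟩ := Nat.exists_eq_succ_of_ne_zero hk0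
      have h1 : (n + 1) / e = j + 1 := by rw [hk, Nat.mul_div_cancel_left _ he]
      have h2 : n / e = j := by
        have : n = e * j + (e - 1) := by
          have : e * (j + 1) = e * j + e := by ring
          simp only [Nat.succ_eq_add_one] at hk
          omega
        rw [this, Nat.mul_add_div he, Nat.div_eq_of_lt (by omega), add_zero]
      rw [h1, h2, gam_succ, padicValNat.mul (gam_pos (hq.trans (Nat.le_self_pow he.ne' q)) j).ne' (by
        have : 2 ≤ (q ^ e) ^ (j + 1) := by
          rw [← pow_mul]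
          exact hq.trans (Nat.le_self_pow (by positivity) q)
        omega)]
      congr 2
      rw [← pow_mul, hk]
    · have h1 : ¬ s ∣ q ^ (n + 1) - 1 := fun h => hd ((hord _).mp h)
      have h2 : (n + 1) / e = n / e := by
        rw [Nat.succ_div_of_not_dvd hd]
      rw [h2, padicValNat.eq_zero_of_not_dvd h1, add_zero]

/-- The key numerical fact. -/
theorem exists_split {q s e : ℕ} (hq : 2 ≤ q) [hs : Fact s.Prime] (he : 0 < e)
    (hord : ∀ i, s ∣ q ^ i - 1 ↔ e ∣ i) {n : ℕ} (hen : e ≤ n) (hn : ∀ b, n ≠ e * s ^ b) :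
    ∃ m, 0 < m ∧ m < n ∧
      padicValNat s (gam q n) = padicValNat s (gam q m) + padicValNat s (gam q (n - m)) := by
  set q1 := q ^ e with hq1
  have hq1' : 2 ≤ q1 := hq.trans (Nat.le_self_pow he.ne' q)
  have hmod : q1 ≡ 1 [MOD s] := by
    have h1 : s ∣ q1 - 1 := (hord e).mpr dvd_rfl
    exact ((Nat.modEq_iff_dvd' (by omega)).mpr h1).symm
  set n' := n / e with hn'
  have hn'1 : 1 ≤ n' := (Nat.one_le_div_iff he).mpr hen
  by_cases hr : n % e = 0
  · -- `n = n' e`
    have hne : n = e * n' := by
      have := Nat.div_add_mod n e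
      rw [hr, add_zero] at this
      exact this.symm
    obtain ⟨m', hm0, hmn, hm⟩ := exists_choose hs.out n' hn'1 (by
      intro k hk
      exact hn k (by rw [hne, hk]))
    refine ⟨e * m', Nat.mul_pos he hm0, by rw [hne]; exact Nat.mul_lt_mul_of_pos_left hmn he, ?_⟩
    rw [val_gam hq he hord, val_gam hq he hord (e * m'), val_gam hq he hord (n - e * m')]
    have e1 : e * m' / e = m' := Nat.mul_div_cancel_left _ he
    have e2 : (n - e * m') / e = n' - m' := by
      rw [hne, ← Nat.mul_sub, Nat.mul_div_cancel_left _ he]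
    rw [e1, e2, ← hn', ← hq1]
    have h1 := gbin_mul hq1' m' (n' - m')
    have e3 : m' + (n' - m') = n' := by omega
    rw [e3] at h1
    have h2 := gbin_mod hmod m' (n' - m')
    rw [e3] at h2
    have h3 : ¬ s ∣ gbin q1 m' (n' - m') := by
      intro hd
      exact hm (Nat.modEq_zero_iff_dvd.mp (h2.symm.trans (Nat.modEq_zero_iff_dvd.mpr hd)))
    have h4 : gbin q1 m' (n' - m') ≠ 0 := fun h => h3 (h ▸ dvd_zero s)
    rw [← h1, padicValNat.mul (mul_ne_zero h4 (gam_pos hq1' m').ne') (gam_pos hq1' _).ne',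
      padicValNat.mul h4 (gam_pos hq1' m').ne', padicValNat.eq_zero_of_not_dvd h3, zero_add]
  · refine ⟨n % e, by omega, ?_, ?_⟩
    · exact (Nat.mod_lt n he).trans_le hen
    · rw [val_gam hq he hord, val_gam hq he hord (n % e), val_gam hq he hord (n - n % e)]
      have e1 : n % e / e = 0 := Nat.div_eq_of_lt (Nat.mod_lt n he)
      have e2 : (n - n % e) / e = n' := by
        have : n - n % e = e * n' := by
          have h1 := Nat.div_add_mod n e
          rw [← hn'] at h1
          omega
        rw [this, Nat.mul_div_cancel_left _ he]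
      rw [e1, e2, ← hn']
      simp [gam]

end Cfsg.Agent.H146.KW.Psl
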