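import Cfsg.Agent.H550.KW.RowsA
import Cfsg.Agent.H62.PCFam
import Cfsg.Agent.H732.SelfCentO
import Cfsg.Agent.S0293

/-!
# S4243: the rows `Sp_6(2)`, `U_4(2)`, `Ω⁺_8(2)` (helper146)
-/

set_option autoImplicit false

open Subgroup Cfsg

namespace Cfsg.Agent.H146.KW.Small

open Cfsg.Agent.H550.KW

universe u

variable {G : Type u} [Group G] [Finite G] [IsSimpleGroup G]

theorem card_sp6 {F : Type} [Field F] [Fintype F] (hF : Fintype.card F = 2) : Nat.card (PSp 3 F) = 1451520 := by
  have h1 := H62.PCFam.card_psp hF (m := 3) (by norm_num)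
  norm_num [Finset.prod_range_succ] at h1
  exact h1

theorem card_u4 {F : Type} [Field F] [Fintype F] (hF : Fintype.card F = 4) : Nat.card (PSU 4 F 2) = 25920 := by
  have h1 := S0280.result (F := F) (q := 2) (by rw [hF]; norm_num) 4 (by norm_num)
  simp only [Finset.prod_range_succ, Finset.prod_range_zero, Nat.reduceAdd] at h1
  rw [if_pos (by decide), if_neg (by decide), if_pos (by decide), if_neg (by decide)] at h1
  norm_num at h1
  omega

theorem card_o8 {F : Type} [Field F] [Fintype F] (hF : Fintype.card F = 2) :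
    Nat.card (POmega F (quadFormPlus 4 F)) = 174182400 := by
  have h1 := S0293.result hF 4 (by norm_num)
  norm_num [Finset.prod_range_succ] at h1
  exact h1

/-- **`Sp_6(2)`** -/
theorem noKW_sp6 {F : Type} [Field F] [Fintype F] (hF : Fintype.card F = 2) (e : G ≃* PSp 3 F) : NoKW G := by
  have hn : Nat.card G = 1451520 := by rw [Nat.card_congr e.toEquiv, card_sp6 hF]
  exact noKW_of_list hn 2 3 [5, 7] 9 (by norm_num) (by norm_num) (by norm_num)
    (kills_one hn _ (by norm_num) (by norm_num))

/-- **`U_4(2)`** -/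
theorem noKW_u4 {F : Type} [Field F] [Fintype F] (hF : Fintype.card F = 4) (e : G ≃* PSU 4 F 2) : NoKW G := by
  have hn : Nat.card G = 25920 := by rw [Nat.card_congr e.toEquiv, card_u4 hF]
  exact noKW_of_list hn 2 3 [5] 6 (by norm_num) (by norm_num) (by norm_num)
    (kills_one hn _ (by norm_num) (by norm_num))

theorem sep_o8 {F : Type} [Field F] [Fintype F] (hF : Fintype.card F = 2) :
    Sep (POmega F (quadFormPlus 4 F)) 5 7 := by
  have hn := card_o8 (F := F) hF
  have hfin : Finite (POmega F (quadFormPlus 4 F)) := Nat.finite_of_card_ne_zero (by rw [hn]; norm_num)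
  obtain ⟨R, hR, hC⟩ := H732.SelfCent.omega8plus_selfcent (F := F) hF
  have hp : Fact (Nat.Prime 7) := ⟨by norm_num⟩
  refine sep_of_card' (c := 7) (by norm_num) (fun Q hQ => ?_) (by norm_num)
  -- `Q` and `R` are Sylow subgroups
  have hfac : (Nat.card (POmega F (quadFormPlus 4 F))).factorization 7 = 1 := by
    rw [hn]
    apply le_antisymm
    · by_contra h4
      have := (Nat.Prime.pow_dvd_iff_le_factorization (p := 7) (by norm_num) (k := 2) (n := 174182400) (by norm_num)).2
        (by omega)
      norm_num at this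
    · exact (Nat.Prime.pow_dvd_iff_le_factorization (p := 7) (by norm_num) (by norm_num)).1 (by norm_num)
  let Q' : Sylow 7 (POmega F (quadFormPlus 4 F)) := Sylow.ofCard Q (by rw [hfac, hQ, pow_one])
  let R' : Sylow 7 (POmega F (quadFormPlus 4 F)) := Sylow.ofCard R (by rw [hfac, hR, pow_one])
  obtain ⟨g, hg⟩ := MulAction.exists_smul_eq (POmega F (quadFormPlus 4 F)) R' Q'
  have h1 : Q = R.map (MulAut.conj g).toMonoidHom := by
    have h2 : ((g • R' : Sylow 7 _) : Subgroup (POmega F (quadFormPlus 4 F))) = (Q' : Subgroup _) := by rw [hg]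
    exact h2.symm
  have h3 : Nat.card (centralizer (Q : Set (POmega F (quadFormPlus 4 F)))) = 7 := by
    have h4 : centralizer (Q : Set (POmega F (quadFormPlus 4 F))) =
        (centralizer (R : Set (POmega F (quadFormPlus 4 F)))).map (MulAut.conj g).toMonoidHom := by
      rw [h1]
      ext x
      rw [mem_centralizer_iff]
      constructor
      · intro h
        refine ⟨g⁻¹ * x * g, ?_, ?_⟩
        · rw [SetLike.mem_coe, mem_centralizer_iff]
          intro y hy
          have h5 := h (g * y * g⁻¹) ⟨y, hy, rfl⟩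
          have h6 : y * (g⁻¹ * x * g) = g⁻¹ * ((g * y * g⁻¹) * x) * g := by group
          rw [h6, h5]
          group
        · change g * (g⁻¹ * x * g) * g⁻¹ = x
          group
      · rintro ⟨y, hy, rfl⟩ z ⟨w, hw, rfl⟩
        have h5 := mem_centralizer_iff.1 hy w hw
        change g * w * g⁻¹ * (g * y * g⁻¹) = g * y * g⁻¹ * (g * w * g⁻¹)
        have h6 : g * w * g⁻¹ * (g * y * g⁻¹) = g * (w * y) * g⁻¹ := by group
        rw [h6, h5]
        group
    rw [h4, hC, Nat.card_congr ((R.equivMapOfInjective _ (MulAut.conj g).injective).toEquiv.symm)]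
    exact hR
  rw [h3]

/-- **`Ω⁺_8(2)`** -/
theorem noKW_o8 {F : Type} [Field F] [Fintype F] (hF : Fintype.card F = 2) (e : G ≃* POmega F (quadFormPlus 4 F)) :
    NoKW G := by
  have hn : Nat.card G = 174182400 := by rw [Nat.card_congr e.toEquiv, card_o8 hF]
  have h7 : Kill G 7 := kill_one hn (by norm_num) (by norm_num)
  have h5 : Kill G 5 := kill_sq (s := 7) hn (by norm_num) (by norm_num) (by norm_num) (by norm_num) (by norm_num) h7
    (by norm_num) (Sep.of_equiv e (sep_o8 hF))
  exact noKW_of_list hn 2 3 [5, 7] 12 (by norm_num) (by norm_num) (by norm_num)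
    (by intro q hq; rcases List.mem_cons.1 hq with rfl | hq
        · exact h5
        · rw [List.mem_singleton.1 hq]; exact h7)

end Cfsg.Agent.H146.KW.Small
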